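import Cfsg.Agent.Co3TwoM12.Cert.CoB.CoverDefs

/-! Generated by tools/dcoset/emit.py: forests and chains. -/

set_option Elab.async false
set_option maxRecDepth 100000

namespace Cfsg.Agent.Co3TwoM12.Cert.CoB

open Cfsg.Agent.DCoset Cfsg.Agent.CosetCert

theorem point_0 : allFrom (Cover.checkPoint cover steps rules tab 0) 0 495 = true := by
  decide +kernel

theorem gen_0 : allFrom (fun l => allFrom (QModel.checkGen tab (chainOf 0) l) 0 ((chainOf 0).nGen l)) 0 7 = true := by
  decide +kernel

theorem pt_0 : allFrom (fun l => allFrom (QModel.checkPt tab (chainOf 0) l) 0 ((chainOf 0).size l)) 0 7 = true := by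
  decide +kernel

theorem point_1 : allFrom (Cover.checkPoint cover steps rules tab 1) 0 495 = true := by
  decide +kernel

theorem gen_1 : allFrom (fun l => allFrom (QModel.checkGen tab (chainOf 1) l) 0 ((chainOf 1).nGen l)) 0 7 = true := by
  decide +kernel

theorem pt_1 : allFrom (fun l => allFrom (QModel.checkPt tab (chainOf 1) l) 0 ((chainOf 1).size l)) 0 7 = true := by
  decide +kernel

theorem point_2 : allFrom (Cover.checkPoint cover steps rules tab 2) 0 495 = true := by
  decide +kernel

theorem gen_2 : allFrom (fun l => allFrom (QModel.checkGen tab (chainOf 2) l) 0 ((chainOf 2).nGen l)) 0 7 = true := by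
  decide +kernel

theorem pt_2 : allFrom (fun l => allFrom (QModel.checkPt tab (chainOf 2) l) 0 ((chainOf 2).size l)) 0 7 = true := by
  decide +kernel


end Cfsg.Agent.Co3TwoM12.Cert.CoB
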