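import Cfsg.Agent.Co3TwoM12.Cert.CoB.CoverDefs

/-! Generated by tools/dcoset/emit.py: forests and chains. -/

set_option Elab.async false
set_option maxRecDepth 100000

namespace Cfsg.Agent.Co3TwoM12.Cert.CoB

open Cfsg.Agent.DCoset Cfsg.Agent.CosetCert

theorem point_30 : allFrom (Cover.checkPoint cover steps rules tab 30) 0 495 = true := by
  decide +kernel

theorem gen_30 : allFrom (fun l => allFrom (QModel.checkGen tab (chainOf 30) l) 0 ((chainOf 30).nGen l)) 0 7 = true := by
  decide +kernel

theorem pt_30 : allFrom (fun l => allFrom (QModel.checkPt tab (chainOf 30) l) 0 ((chainOf 30).size l)) 0 7 = true := by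
  decide +kernel

theorem point_31 : allFrom (Cover.checkPoint cover steps rules tab 31) 0 495 = true := by
  decide +kernel

theorem gen_31 : allFrom (fun l => allFrom (QModel.checkGen tab (chainOf 31) l) 0 ((chainOf 31).nGen l)) 0 7 = true := by
  decide +kernel

theorem pt_31 : allFrom (fun l => allFrom (QModel.checkPt tab (chainOf 31) l) 0 ((chainOf 31).size l)) 0 7 = true := by
  decide +kernel

theorem point_32 : allFrom (Cover.checkPoint cover steps rules tab 32) 0 495 = true := by
  decide +kernel

theorem gen_32 : allFrom (fun l => allFrom (QModel.checkGen tab (chainOf 32) l) 0 ((chainOf 32).nGen l)) 0 7 = true := by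
  decide +kernel

theorem pt_32 : allFrom (fun l => allFrom (QModel.checkPt tab (chainOf 32) l) 0 ((chainOf 32).size l)) 0 7 = true := by
  decide +kernel


end Cfsg.Agent.Co3TwoM12.Cert.CoB
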