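import Cfsg.Agent.Co3TwoM12.Cert.CoB.CoverDefs

/-! Generated by tools/dcoset/emit.py: forests and chains. -/

set_option Elab.async false
set_option maxRecDepth 100000

namespace Cfsg.Agent.Co3TwoM12.Cert.CoB

open Cfsg.Agent.DCoset Cfsg.Agent.CosetCert

theorem point_51 : allFrom (Cover.checkPoint cover steps rules tab 51) 0 495 = true := by
  decide +kernel

theorem gen_51 : allFrom (fun l => allFrom (QModel.checkGen tab (chainOf 51) l) 0 ((chainOf 51).nGen l)) 0 7 = true := by
  decide +kernel

theorem pt_51 : allFrom (fun l => allFrom (QModel.checkPt tab (chainOf 51) l) 0 ((chainOf 51).size l)) 0 7 = true := by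
  decide +kernel

theorem point_52 : allFrom (Cover.checkPoint cover steps rules tab 52) 0 495 = true := by
  decide +kernel

theorem gen_52 : allFrom (fun l => allFrom (QModel.checkGen tab (chainOf 52) l) 0 ((chainOf 52).nGen l)) 0 7 = true := by
  decide +kernel

theorem pt_52 : allFrom (fun l => allFrom (QModel.checkPt tab (chainOf 52) l) 0 ((chainOf 52).size l)) 0 7 = true := by
  decide +kernel

theorem point_53 : allFrom (Cover.checkPoint cover steps rules tab 53) 0 495 = true := by
  decide +kernel

theorem gen_53 : allFrom (fun l => allFrom (QModel.checkGen tab (chainOf 53) l) 0 ((chainOf 53).nGen l)) 0 7 = true := by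
  decide +kernel

theorem pt_53 : allFrom (fun l => allFrom (QModel.checkPt tab (chainOf 53) l) 0 ((chainOf 53).size l)) 0 7 = true := by
  decide +kernel


end Cfsg.Agent.Co3TwoM12.Cert.CoB
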