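import Cfsg.Agent.Co3TwoM12.Cert.CoB.CoverDefs

/-! Generated by tools/dcoset/emit.py: forests and chains. -/

set_option Elab.async false
set_option maxRecDepth 100000

namespace Cfsg.Agent.Co3TwoM12.Cert.CoB

open Cfsg.Agent.DCoset Cfsg.Agent.CosetCert

theorem point_12 : allFrom (Cover.checkPoint cover steps rules tab 12) 0 495 = true := by
  decide +kernel

theorem gen_12 : allFrom (fun l => allFrom (QModel.checkGen tab (chainOf 12) l) 0 ((chainOf 12).nGen l)) 0 7 = true := by
  decide +kernel

theorem pt_12 : allFrom (fun l => allFrom (QModel.checkPt tab (chainOf 12) l) 0 ((chainOf 12).size l)) 0 7 = true := by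
  decide +kernel

theorem point_13 : allFrom (Cover.checkPoint cover steps rules tab 13) 0 495 = true := by
  decide +kernel

theorem gen_13 : allFrom (fun l => allFrom (QModel.checkGen tab (chainOf 13) l) 0 ((chainOf 13).nGen l)) 0 7 = true := by
  decide +kernel

theorem pt_13 : allFrom (fun l => allFrom (QModel.checkPt tab (chainOf 13) l) 0 ((chainOf 13).size l)) 0 7 = true := by
  decide +kernel

theorem point_14 : allFrom (Cover.checkPoint cover steps rules tab 14) 0 495 = true := by
  decide +kernel

theorem gen_14 : allFrom (fun l => allFrom (QModel.checkGen tab (chainOf 14) l) 0 ((chainOf 14).nGen l)) 0 7 = true := by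
  decide +kernel

theorem pt_14 : allFrom (fun l => allFrom (QModel.checkPt tab (chainOf 14) l) 0 ((chainOf 14).size l)) 0 7 = true := by
  decide +kernel


end Cfsg.Agent.Co3TwoM12.Cert.CoB
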