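import Cfsg.Agent.Co3TwoM12.Cert.CoB.StepDefs

/-! Generated by tools/dcoset/emit.py: steps are justified. -/

set_option Elab.async false
set_option maxRecDepth 100000

namespace Cfsg.Agent.Co3TwoM12.Cert.CoB

open Cfsg.Agent.DCoset Cfsg.Agent.CosetCert

theorem steps_112 : allFrom (Steps.check steps rules tab) 28000 250 = true := by
  decide +kernel

theorem steps_113 : allFrom (Steps.check steps rules tab) 28250 250 = true := by
  decide +kernel

theorem steps_114 : allFrom (Steps.check steps rules tab) 28500 250 = true := by
  decide +kernel

theorem steps_115 : allFrom (Steps.check steps rules tab) 28750 250 = true := by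
  decide +kernel

theorem steps_116 : allFrom (Steps.check steps rules tab) 29000 250 = true := by
  decide +kernel

theorem steps_117 : allFrom (Steps.check steps rules tab) 29250 250 = true := by
  decide +kernel

theorem steps_118 : allFrom (Steps.check steps rules tab) 29500 250 = true := by
  decide +kernel

theorem steps_119 : allFrom (Steps.check steps rules tab) 29750 250 = true := by
  decide +kernel


end Cfsg.Agent.Co3TwoM12.Cert.CoB
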