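import Cfsg.Agent.Co3TwoM12.Cert.CoB.StepDefs

/-! Generated by tools/dcoset/emit.py: steps are justified. -/

set_option Elab.async false
set_option maxRecDepth 100000

namespace Cfsg.Agent.Co3TwoM12.Cert.CoB

open Cfsg.Agent.DCoset Cfsg.Agent.CosetCert

theorem steps_168 : allFrom (Steps.check steps rules tab) 42000 250 = true := by
  decide +kernel

theorem steps_169 : allFrom (Steps.check steps rules tab) 42250 250 = true := by
  decide +kernel

theorem steps_170 : allFrom (Steps.check steps rules tab) 42500 250 = true := by
  decide +kernel

theorem steps_171 : allFrom (Steps.check steps rules tab) 42750 250 = true := by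
  decide +kernel

theorem steps_172 : allFrom (Steps.check steps rules tab) 43000 250 = true := by
  decide +kernel

theorem steps_173 : allFrom (Steps.check steps rules tab) 43250 250 = true := by
  decide +kernel

theorem steps_174 : allFrom (Steps.check steps rules tab) 43500 250 = true := by
  decide +kernel

theorem steps_175 : allFrom (Steps.check steps rules tab) 43750 250 = true := by
  decide +kernel


end Cfsg.Agent.Co3TwoM12.Cert.CoB
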