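import Cfsg.Agent.Co3TwoM12.Cert.CoB.StepDefs

/-! Generated by tools/dcoset/emit.py: steps are justified. -/

set_option Elab.async false
set_option maxRecDepth 100000

namespace Cfsg.Agent.Co3TwoM12.Cert.CoB

open Cfsg.Agent.DCoset Cfsg.Agent.CosetCert

theorem steps_192 : allFrom (Steps.check steps rules tab) 48000 250 = true := by
  decide +kernel

theorem steps_193 : allFrom (Steps.check steps rules tab) 48250 250 = true := by
  decide +kernel

theorem steps_194 : allFrom (Steps.check steps rules tab) 48500 250 = true := by
  decide +kernel

theorem steps_195 : allFrom (Steps.check steps rules tab) 48750 250 = true := by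
  decide +kernel

theorem steps_196 : allFrom (Steps.check steps rules tab) 49000 250 = true := by
  decide +kernel

theorem steps_197 : allFrom (Steps.check steps rules tab) 49250 250 = true := by
  decide +kernel

theorem steps_198 : allFrom (Steps.check steps rules tab) 49500 250 = true := by
  decide +kernel

theorem steps_199 : allFrom (Steps.check steps rules tab) 49750 250 = true := by
  decide +kernel


end Cfsg.Agent.Co3TwoM12.Cert.CoB
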