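import Cfsg.Agent.Co3TwoM12.Cert.CoB.StepDefs

/-! Generated by tools/dcoset/emit.py: steps are justified. -/

set_option Elab.async false
set_option maxRecDepth 100000

namespace Cfsg.Agent.Co3TwoM12.Cert.CoB

open Cfsg.Agent.DCoset Cfsg.Agent.CosetCert

theorem steps_312 : allFrom (Steps.check steps rules tab) 78000 250 = true := by
  decide +kernel

theorem steps_313 : allFrom (Steps.check steps rules tab) 78250 250 = true := by
  decide +kernel

theorem steps_314 : allFrom (Steps.check steps rules tab) 78500 250 = true := by
  decide +kernel

theorem steps_315 : allFrom (Steps.check steps rules tab) 78750 250 = true := by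
  decide +kernel

theorem steps_316 : allFrom (Steps.check steps rules tab) 79000 250 = true := by
  decide +kernel

theorem steps_317 : allFrom (Steps.check steps rules tab) 79250 250 = true := by
  decide +kernel

theorem steps_318 : allFrom (Steps.check steps rules tab) 79500 250 = true := by
  decide +kernel

theorem steps_319 : allFrom (Steps.check steps rules tab) 79750 250 = true := by
  decide +kernel


end Cfsg.Agent.Co3TwoM12.Cert.CoB
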