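import Cfsg.Agent.Co3TwoM12.Cert.CoB.StepDefs

/-! Generated by tools/dcoset/emit.py: steps are justified. -/

set_option Elab.async false
set_option maxRecDepth 100000

namespace Cfsg.Agent.Co3TwoM12.Cert.CoB

open Cfsg.Agent.DCoset Cfsg.Agent.CosetCert

theorem steps_32 : allFrom (Steps.check steps rules tab) 8000 250 = true := by
  decide +kernel

theorem steps_33 : allFrom (Steps.check steps rules tab) 8250 250 = true := by
  decide +kernel

theorem steps_34 : allFrom (Steps.check steps rules tab) 8500 250 = true := by
  decide +kernel

theorem steps_35 : allFrom (Steps.check steps rules tab) 8750 250 = true := by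
  decide +kernel

theorem steps_36 : allFrom (Steps.check steps rules tab) 9000 250 = true := by
  decide +kernel

theorem steps_37 : allFrom (Steps.check steps rules tab) 9250 250 = true := by
  decide +kernel

theorem steps_38 : allFrom (Steps.check steps rules tab) 9500 250 = true := by
  decide +kernel

theorem steps_39 : allFrom (Steps.check steps rules tab) 9750 250 = true := by
  decide +kernel


end Cfsg.Agent.Co3TwoM12.Cert.CoB
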