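import Cfsg.Agent.Co3TwoM12.Cert.CoB.StepDefs

/-! Generated by tools/dcoset/emit.py: steps are justified. -/

set_option Elab.async false
set_option maxRecDepth 100000

namespace Cfsg.Agent.Co3TwoM12.Cert.CoB

open Cfsg.Agent.DCoset Cfsg.Agent.CosetCert

theorem steps_40 : allFrom (Steps.check steps rules tab) 10000 250 = true := by
  decide +kernel

theorem steps_41 : allFrom (Steps.check steps rules tab) 10250 250 = true := by
  decide +kernel

theorem steps_42 : allFrom (Steps.check steps rules tab) 10500 250 = true := by
  decide +kernel

theorem steps_43 : allFrom (Steps.check steps rules tab) 10750 250 = true := by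
  decide +kernel

theorem steps_44 : allFrom (Steps.check steps rules tab) 11000 250 = true := by
  decide +kernel

theorem steps_45 : allFrom (Steps.check steps rules tab) 11250 250 = true := by
  decide +kernel

theorem steps_46 : allFrom (Steps.check steps rules tab) 11500 250 = true := by
  decide +kernel

theorem steps_47 : allFrom (Steps.check steps rules tab) 11750 250 = true := by
  decide +kernel


end Cfsg.Agent.Co3TwoM12.Cert.CoB
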